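import Cfsg.Agent.Fus.NormalCentralizer.Closed
import Cfsg.Agent.Fus.PPrimeExist.Displacement
import Cfsg.Agent.Fus.NormalEnvelope.PowerStep

/-!
If `S = T C_S(T)`, `Aut_F(T) = Aut_E(T)` and the centralizer of the normal subsystem `E` lies in
`T`, then every map of `F` is trivial modulo `T`.
-/

set_option autoImplicit false

namespace CfsgLib.NormalEnvelope

open Cfsg Cfsg.FusionSystem CfsgLib.Fus CfsgLib.NormalCent CfsgLib.Fusion.Alperin

variable {Ω : Type*} [Group Ω] {S T : Subgroup Ω} {F : Cfsg.FusionSystem S}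
  {E : Cfsg.FusionSystem T} {p : ℕ} [Finite S] [Fact p.Prime]

/-- The situation of the theorem. -/
structure Small (F : Cfsg.FusionSystem S) (E : Cfsg.FusionSystem T) (p : ℕ) : Prop where
  hS : IsPGroup p S
  hE : E.IsNormalIn F p
  htop : S ≤ T ⊔ centralizerIn S T
  haut : F.autGroup T ≤ E.autGroup T
  hY : cSub F E p ≤ T

namespace Small

variable (K : Small F E p)

include K

omit [Finite S] [Fact p.Prime] in
theorem hTS : T ≤ S := le_S K.hE

omit [Finite S] [Fact p.Prime] in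
theorem conjT {s t : Ω} (hs : s ∈ S) (ht : t ∈ T) : s * t * s⁻¹ ∈ T := conj_mem_T K.hE hs ht

omit [Finite S] [Fact p.Prime] in
theorem decomp {x : Ω} (hx : x ∈ S) : ∃ t ∈ T, ∃ c ∈ centralizerIn S T, x = t * c :=
  PPrimeExist.mem_sup_commuting (PPrimeExist.commute_centralizerIn le_rfl) (K.htop hx)

omit [Finite S] [Fact p.Prime] in
theorem conjC {s c : Ω} (hs : s ∈ S) (hc : c ∈ centralizerIn S T) :
    s * c * s⁻¹ ∈ centralizerIn S T :=
  le_normalizer_centralizerIn ⟨hs, le_normalizer_of_stronglyClosed (closedT K.hE) hs⟩ hc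

/-- `C_S(T)` is abelian modulo `T`. -/
theorem comm_cent {c d : Ω} (hc : c ∈ centralizerIn S T) (hd : d ∈ centralizerIn S T) :
    c⁻¹ * (d * c * d⁻¹) ∈ T :=
  K.hY (displacement_mem_cSub K.hS K.hE
    ((centralizerSystem F T K.hTS).conj_mem (Subgroup.zpowers_le.2 hc) hd)
    ⟨c, Subgroup.mem_zpowers c⟩)

/-- `S` is abelian modulo `T`. -/
theorem comm {x y : Ω} (hx : x ∈ S) (hy : y ∈ S) : x⁻¹ * (y * x * y⁻¹) ∈ T := by
  obtain ⟨t, ht, c, hc, rfl⟩ := K.decomp hx
  obtain ⟨s, hs, d, hd, rfl⟩ := K.decomp hy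
  have h1 : s * d * (t * c) * (s * d)⁻¹ = (s * d * t * (s * d)⁻¹) * (s * (d * c * d⁻¹) * s⁻¹) := by
    group
  have h2 : s * (d * c * d⁻¹) * s⁻¹ = d * c * d⁻¹ := by
    rw [(K.conjC hd.1 hc).2 s hs, mul_inv_cancel_right]
  rw [h1, h2]
  have h3 := T.mul_mem (K.conjT (S.inv_mem hc.1) (T.mul_mem (T.inv_mem ht)
    (K.conjT (S.mul_mem (K.hTS hs) hd.1) ht))) (K.comm_cent hc hd)
  convert h3 using 1
  group

omit [Finite S] [Fact p.Prime] in
/-- `T ∩ C_S(T)` is central. -/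
theorem central {z x : Ω} (hzT : z ∈ T) (hz : z ∈ centralizerIn S T) (hx : x ∈ S) :
    x * z = z * x := by
  obtain ⟨t, ht, c, hc, rfl⟩ := K.decomp hx
  rw [mul_assoc, show c * z = z * c from (hc.2 z hzT).symm, ← mul_assoc, hz.2 t ht, mul_assoc]

/-- The stabilizer of `1 ≤ R ∩ T ≤ R` acts by elements of `S` on a radical `R`. -/
theorem stab_mem_inn {R : Subgroup Ω} (hr : F.IsRadical p R) {b : MulAut R}
    (hb : b ∈ F.autGroup R) (h1 : ∀ y : R, (y : Ω)⁻¹ * ((b y : R) : Ω) ∈ T)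
    (h2 : ∀ y : R, (y : Ω) ∈ T → b y = y) : b ∈ Cfsg.Inn R := by
  have hT := closedT K.hE
  have hRS := hr.1
  have : Finite R := finite_of_le hRS
  have := finite_mulAut R
  let J : Subgroup (F.autGroup R) :=
    { carrier := {a | (∀ y : R, ((y⁻¹ * (a : MulAut R) y : R) : Ω) ∈ T) ∧
        ∀ y : R, (y : Ω) ∈ T → (a : MulAut R) y = y}
      one_mem' := ⟨fun y => by simp, fun y _ => rfl⟩
      mul_mem' := fun {a c} ha hc => ⟨fun y => by
        show ((y⁻¹ * (a : MulAut R) ((c : MulAut R) y) : R) : Ω) ∈ T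
        have e : y⁻¹ * (a : MulAut R) ((c : MulAut R) y) = (y⁻¹ * (c : MulAut R) y) *
            (((c : MulAut R) y)⁻¹ * (a : MulAut R) ((c : MulAut R) y)) := by group
        rw [e, Subgroup.coe_mul]
        exact T.mul_mem (hc.1 y) (ha.1 _), fun y hy => by
        show (a : MulAut R) ((c : MulAut R) y) = y
        rw [hc.2 y hy, ha.2 y hy]⟩
      inv_mem' := fun {a} ha => ⟨fun y => by
        show ((y⁻¹ * (a : MulAut R)⁻¹ y : R) : Ω) ∈ T
        have e : y⁻¹ * (a : MulAut R)⁻¹ y =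
            (((a : MulAut R)⁻¹ y)⁻¹ * (a : MulAut R) ((a : MulAut R)⁻¹ y))⁻¹ := by
          rw [MulAut.apply_inv_self]; group
        rw [e, Subgroup.coe_inv]
        exact T.inv_mem (ha.1 _), fun y hy => by
        show (a : MulAut R)⁻¹ y = y
        conv_lhs => rw [← ha.2 y hy]
        exact MulAut.inv_apply_self _ _ _⟩ }
  have hinv : ∀ (k : F.autGroup R) (y : R), (y : Ω) ∈ T → (((k : MulAut R) y : R) : Ω) ∈ T :=
    fun k y hy => map_mem_of_stronglyClosed hT ((mem_autGroup_iff F hRS).1 k.2) hy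
  have hJn : J.Normal := by
    refine ⟨fun k hk a => ⟨fun y => ?_, fun y hy => ?_⟩⟩
    · show ((y⁻¹ * (a : MulAut R) ((k : MulAut R) ((a : MulAut R)⁻¹ y)) : R) : Ω) ∈ T
      have h3 := hinv a _ (hk.1 ((a : MulAut R)⁻¹ y))
      rwa [map_mul, map_inv, MulAut.apply_inv_self] at h3
    · show (a : MulAut R) ((k : MulAut R) ((a : MulAut R)⁻¹ y)) = y
      have h5 : (k : MulAut R) ((a : MulAut R)⁻¹ y) = (a : MulAut R)⁻¹ y :=
        hk.2 _ (hinv a⁻¹ y hy)
      rw [h5, MulAut.apply_inv_self]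
  have hJp : IsPGroup p J := by
    intro k
    obtain ⟨i, hi⟩ := IsPGroup.iff_card.1 (K.hS.to_le hRS)
    refine ⟨i, Subtype.ext (Subtype.ext (MulEquiv.ext fun y => ?_))⟩
    set m : MulAut R := ((k : F.autGroup R) : MulAut R)
    set z : R := y⁻¹ * m y
    have hfz : m z = z := k.2.2 z (k.2.1 y)
    have h4 : ∀ j : ℕ, (m ^ j) y = y * z ^ j := by
      intro j
      induction j with
      | zero => simp
      | succ j ih =>
        rw [pow_succ', MulAut.mul_apply, ih, map_mul, map_pow, hfz, pow_succ', ← mul_assoc,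
          show m y = y * z from (mul_inv_cancel_left y _).symm]
    show (m ^ p ^ i) y = y
    rw [h4, ← hi, pow_card_eq_one', mul_one]
  have hbJ : (⟨b, hb⟩ : F.autGroup R) ∈ J :=
    ⟨fun y => by rw [Subgroup.coe_mul, Subgroup.coe_inv]; exact h1 y, h2⟩
  rw [← hr.2]
  exact ⟨⟨b, hb⟩, CharP.le_pCore hJn hJp hbJ, rfl⟩

/-- A centric radical subgroup contains `C_S(T)`. -/
theorem cent_le {R : Subgroup Ω} (hc : F.IsCentric R) (hr : F.IsRadical p R) :
    centralizerIn S T ≤ R := by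
  intro c hcC
  have hRS := hc.1
  have hz : ∀ x ∈ R, x⁻¹ * (c * x * c⁻¹) ∈ R ∧ x⁻¹ * (c * x * c⁻¹) ∈ T := by
    intro x hx
    have hT' := K.comm (hRS hx) hcC.1
    have hC' : x⁻¹ * (c * x * c⁻¹) ∈ centralizerIn S T := by
      have h := Subgroup.mul_mem _ (K.conjC (S.inv_mem (hRS hx)) hcC) (Subgroup.inv_mem _ hcC)
      convert h using 1
      group
    exact ⟨centralizerIn_le_of_centric hc ⟨hC'.1, fun y hy => K.central hT' hC' (hRS hy)⟩, hT'⟩
  have hconj : ∀ x ∈ R, c * x * c⁻¹ ∈ R := fun x hx => by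
    rw [← mul_inv_cancel_left x (c * x * c⁻¹)]
    exact R.mul_mem hx (hz x hx).1
  have : Finite R := finite_of_le hRS
  have hn : c ∈ Subgroup.normalizer (R : Set Ω) := by
    refine Subgroup.mem_normalizer_iff.2 fun x => ⟨hconj x, fun hx => ?_⟩
    have hinj : Function.Injective fun y : R => (⟨c * y * c⁻¹, hconj y y.2⟩ : R) :=
      fun y y' h => Subtype.ext (mul_left_cancel (mul_right_cancel (congrArg Subtype.val h)))
    obtain ⟨y, hy⟩ := Finite.injective_iff_surjective.1 hinj ⟨_, hx⟩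
    rw [← mul_left_cancel (mul_right_cancel (congrArg Subtype.val hy))]
    exact y.2
  refine mem_of_conjAut_inn hc hcC.1 hn (K.stab_mem_inn hr
    (autInducedBy_le_autGroup F hRS (conjAut_mem_autInducedBy hn hcC.1)) (fun y => ?_)
    fun y hy => Subtype.ext ?_)
  · rw [conjAut_apply]
    exact (hz y y.2).2
  · rw [conjAut_apply, ← hcC.2 y hy, mul_inv_cancel_right]

theorem decomp_radical {R : Subgroup Ω} (hc : F.IsCentric R) (hr : F.IsRadical p R) {x : Ω}
    (hx : x ∈ R) : ∃ t ∈ R ⊓ T, ∃ c ∈ centralizerIn S T, x = t * c := by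
  obtain ⟨t, ht, c, hcC, rfl⟩ := K.decomp (hc.1 hx)
  refine ⟨t, ⟨?_, ht⟩, c, hcC, rfl⟩
  have := R.mul_mem hx (R.inv_mem (K.cent_le hc hr hcC))
  rwa [mul_inv_cancel_right] at this

theorem normalizer_radical {R : Subgroup Ω} (hc : F.IsCentric R) (hr : F.IsRadical p R) :
    normalizerIn S R = normalizerIn S (R ⊓ T) := by
  have hT := le_normalizer_of_stronglyClosed (closedT K.hE)
  refine le_antisymm (fun s hs => ⟨hs.1, Subgroup.mem_normalizer_iff.2 fun x =>
    and_congr (Subgroup.mem_normalizer_iff.1 hs.2 x) (Subgroup.mem_normalizer_iff.1 (hT hs.1) x)⟩)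
    fun s hs => ?_
  have key : ∀ u, u ∈ S → u ∈ Subgroup.normalizer ((R ⊓ T : Subgroup Ω) : Set Ω) →
      ∀ x ∈ R, u * x * u⁻¹ ∈ R := fun u hu hun x hx => by
    obtain ⟨t, ht, c, hcC, rfl⟩ := K.decomp_radical hc hr hx
    rw [show u * (t * c) * u⁻¹ = (u * t * u⁻¹) * (u * c * u⁻¹) by group]
    exact R.mul_mem ((Subgroup.mem_normalizer_iff.1 hun t).1 ht).1
      (K.cent_le hc hr (K.conjC hu hcC))
  refine ⟨hs.1, Subgroup.mem_normalizer_iff.2 fun x => ⟨key s hs.1 hs.2 x, fun hx => ?_⟩⟩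
  have h := key s⁻¹ (S.inv_mem hs.1) (Subgroup.inv_mem _ hs.2) _ hx
  convert h using 1
  group

theorem centralizer_radical {R : Subgroup Ω} (hc : F.IsCentric R) (hr : F.IsRadical p R) :
    centralizerIn S (R ⊓ T) ≤ R := by
  intro x hx
  obtain ⟨t, ht, c, hcC, rfl⟩ := K.decomp hx.1
  refine R.mul_mem (tcentric_id (tcentric_inter K.hS K.hE hc hr) K.hTS ⟨ht, fun q hq => ?_⟩).1
    (K.cent_le hc hr hcC)
  have h1 := hx.2 q hq
  have h2 := hcC.2 q hq.2
  calc q * t = q * (t * c) * c⁻¹ := by group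
    _ = t * c * q * c⁻¹ := by rw [h1]
    _ = t * (c * q) * c⁻¹ := by group
    _ = t * (q * c) * c⁻¹ := by rw [h2]
    _ = t * q := by group

/-- The meet with `T` of a fully normalized centric radical subgroup is fully normalized. -/
theorem fullyNormalized_meet {R : Subgroup Ω} (hfn : F.IsFullyNormalized R) (hc : F.IsCentric R)
    (hr : F.IsRadical p R) : F.IsFullyNormalized (R ⊓ T) := by
  have hF := K.hE.1.2.1
  have hQS : R ⊓ T ≤ S := inf_le_left.trans hc.1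
  obtain ⟨Q₀, hQQ₀, hfn₀⟩ := exists_fullyNormalized F hQS
  refine ⟨hQS, fun Q' hQ' => (hfn₀.2 Q' (isConj_trans (isConj_symm hQQ₀) hQ')).trans ?_⟩
  obtain ⟨φ, hφ, hφr, θ, hθ, hθe⟩ := exists_normalizer_map_fn K.hS hF hfn₀ hQQ₀
  obtain ⟨g, hg, hge⟩ := exists_mor hθ
  have hQN : R ⊓ T ≤ normalizerIn S (R ⊓ T) := le_normalizerIn hQS
  have hRN : R ≤ normalizerIn S (R ⊓ T) := by
    rw [← K.normalizer_radical hc hr]; exact le_normalizerIn hc.1
  have hgQ : g '' ((R ⊓ T : Subgroup Ω) : Set Ω) = Q₀ := by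
    rw [← hφr]
    ext y
    constructor
    · rintro ⟨x, hx, rfl⟩
      exact ⟨⟨x, hx⟩, ((hge ⟨x, hQN hx⟩).trans (hθe ⟨x, hx⟩ (hQN hx))).symm⟩
    · rintro ⟨x, rfl⟩
      exact ⟨x, x.2, (hge ⟨x, hQN x.2⟩).trans (hθe x (hQN x.2))⟩
  obtain ⟨R₀, hR₀, hR₀S⟩ := hg.exists_img hRN
  have hconj : F.IsConj R R₀ := (hg.restrict hRN).isConj hR₀
  have hc₀ := isCentric_of_isConj hc hconj
  have hr₀ := Fusion.Alperin.isRadical_of_isConj hr hconj
  have e : R₀ ⊓ T = Q₀ := by
    obtain ⟨g', hg', hg'g, hgg', hg'R⟩ := (hg.restrict hRN).exists_inv hR₀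
    ext y
    constructor
    · rintro ⟨hy, hyT⟩
      show y ∈ (Q₀ : Set Ω)
      rw [← hgQ]
      exact ⟨g' y, ⟨show _ ∈ (R : Set Ω) from hg'R ▸ ⟨y, hy, rfl⟩, mor_mem_T K.hE hg' hy hyT⟩,
        hgg' y hy⟩
    · intro hy
      obtain ⟨x, hx, rfl⟩ := (show y ∈ g '' ((R ⊓ T : Subgroup Ω) : Set Ω) from hgQ ▸ hy)
      exact ⟨show g x ∈ (R₀ : Set Ω) from hR₀ ▸ ⟨x, hx.1, rfl⟩, mor_mem_T K.hE hg (hQN hx) hx.2⟩
  rw [← K.normalizer_radical hc hr, ← e, ← K.normalizer_radical hc₀ hr₀]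
  exact hfn.2 R₀ hconj

/-- Trivial modulo `T`. -/
def Disp (_K : Small F E p) (N : Subgroup Ω) (f : Ω → Ω) : Prop := ∀ x ∈ N, x⁻¹ * f x ∈ T

omit [Finite S] [Fact p.Prime] in
theorem disp_comp {N M : Subgroup Ω} {f g : Ω → Ω} (hf : K.Disp N f) (hg : K.Disp M g)
    (h : ∀ x ∈ N, f x ∈ M) : K.Disp N (g ∘ f) := fun x hx => by
  have h1 := T.mul_mem (hf x hx) (hg _ (h x hx))
  convert h1 using 1
  show x⁻¹ * g (f x) = _
  group

omit [Finite S] [Fact p.Prime] in
theorem disp_inv {N M : Subgroup Ω} {f g : Ω → Ω} (hf : K.Disp N f)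
    (h : ∀ y ∈ M, g y ∈ N ∧ f (g y) = y) : K.Disp M g := fun y hy => by
  obtain ⟨hgN, hfg⟩ := h y hy
  have h1 := T.inv_mem (hf _ hgN)
  rw [hfg] at h1
  convert h1 using 1
  group

omit [Finite S] [Fact p.Prime] in
/-- A map trivial modulo `T` on `T` and on `C_S(T)` is trivial modulo `T`. -/
theorem disp_of_lift {N : Subgroup Ω} {f : Ω → Ω} (hf : Mor F N f)
    (hdec : ∀ x ∈ N, ∃ t ∈ N ⊓ T, ∃ c ∈ centralizerIn S T, x = t * c ∧ c ∈ N)
    (hC : ∀ c ∈ centralizerIn S T, c ∈ N → c⁻¹ * f c ∈ T) : K.Disp N f := by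
  intro x hx
  obtain ⟨t, ht, c, hc, rfl, hcN⟩ := hdec x hx
  rw [hf.map_mul ht.1 hcN]
  have h1 := T.mul_mem (K.conjT (S.inv_mem hc.1)
    (T.mul_mem (T.inv_mem ht.2) (mor_mem_T K.hE hf ht.1 ht.2))) (hC c hc hcN)
  convert h1 using 1
  group

/-- The step of the induction at a proper centric radical subgroup. -/
theorem disp_step {R : Subgroup Ω} (hR : IsAlperinSubgroup F p R) (hne : R ≠ S)
    (ih : ∀ (N : Subgroup Ω) (f : Ω → Ω), Mor F N f → Nat.card R < Nat.card N → K.Disp N f)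
    {γ : Ω → Ω} (hγ : Mor F R γ) (hγR : ∀ x ∈ R, γ x ∈ R) : K.Disp R γ := by
  have hF := K.hE.1.2.1
  have hc := hR.centric
  have hr := hR.radical
  have hRS := hc.1
  have : Finite R := finite_of_le hRS
  have := finite_mulAut R
  set Q := R ⊓ T with hQdef
  have hQR : Q ≤ R := inf_le_left
  have hQS : Q ≤ S := hQR.trans hRS
  have : Finite Q := finite_of_le hQS
  have := finite_mulAut Q
  have htc : TCentric F T Q := tcentric_inter K.hS K.hE hc hr
  have hfnQ : F.IsFullyNormalized Q := K.fullyNormalized_meet hR.fullyNormalized hc hr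
  have hNeq := K.normalizer_radical hc hr
  obtain ⟨g₀, hg₀, hg₀R⟩ := exists_normalizing_not_mem K.hS hRS hne
  -- maps whose action on `Q` normalizes the automorphisms induced by `S` extend
  have big : ∀ {a : F.autGroup Q}, (∀ s ∈ normalizerIn S Q, ∃ s' ∈ S, ∀ x : Q,
      ∀ h : s * (x : Ω) * s⁻¹ ∈ Q, (((a : MulAut Q) ⟨_, h⟩ : Q) : Ω) =
        s' * (((a : MulAut Q) x : Q) : Ω) * s'⁻¹) →
      ∃ f, Mor F R f ∧ (∀ x ∈ R, f x ∈ R) ∧ (∀ x : Q, f x = (((a : MulAut Q) x : Q) : Ω)) ∧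
        K.Disp R f := by
    intro a ha
    obtain ⟨g, hg, hga, hgQ⟩ := exists_mor_of_aut hQS a
    obtain ⟨τ, hτ, hτe⟩ := hg.exists_ext hgQ (fullyNormalized_props K.hS hF hfnQ).2
      (L := normalizerIn S Q) (le_normalizerIn hQS) le_rfl fun s hs => by
        obtain ⟨s', hs', he⟩ := ha s hs
        refine ⟨s', hs', fun x hx => ?_⟩
        rw [hga ⟨x, hx⟩, hga ⟨_, conj_mem_of_normalizer hs.2 hx⟩]
        exact he ⟨x, hx⟩ _
    have hRN : R ≤ normalizerIn S Q := hNeq ▸ le_normalizerIn hRS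
    have hτQ : τ '' (Q : Set Ω) = Q := by
      conv_rhs => rw [← hgQ]
      exact Set.image_congr hτe
    have hd := ih _ τ hτ (card_lt_of_le_of_mem (normalizerIn_le Q) hRN (hNeq ▸ hg₀) hg₀R)
    refine ⟨τ, hτ.restrict hRN, fun x hx => ?_, fun x => (hτe x x.2).trans (hga x),
      fun x hx => hd x (hRN hx)⟩
    obtain ⟨t, ht, c, hcC, rfl⟩ := K.decomp_radical hc hr hx
    have hcR := K.cent_le hc hr hcC
    rw [hτ.map_mul (hRN (hQR ht)) (hRN hcR)]
    refine R.mul_mem (hQR (show _ ∈ (Q : Set Ω) from hτQ ▸ ⟨t, ht, rfl⟩))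
      (K.centralizer_radical hc hr (map_centralizerIn hτ (le_normalizerIn hQS) hτQ (hRN hcR) ?_))
    exact centralizerIn_antitone inf_le_right hcC
  let D : Subgroup (F.autGroup Q) :=
    { carrier := {a | ∃ f, Mor F R f ∧ (∀ x ∈ R, f x ∈ R) ∧
        (∀ x : Q, f x = (((a : MulAut Q) x : Q) : Ω)) ∧ K.Disp R f}
      one_mem' := ⟨id, mor_id hRS, fun _ hx => hx, fun _ => rfl, fun x _ => by simp⟩
      mul_mem' := by
        rintro a b ⟨f, hf, hfR, hfa, hfd⟩ ⟨g, hg, hgR, hgb, hgd⟩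
        refine ⟨f ∘ g, hg.comp hf hgR, fun x hx => hfR _ (hgR x hx), fun x => ?_,
          K.disp_comp hgd hfd hgR⟩
        show f (g x) = _
        rw [hgb x, hfa]
        rfl
      inv_mem' := by
        rintro a ⟨f, hf, hfR, hfa, hfd⟩
        obtain ⟨g, hg, hgf, hfg, hgR⟩ := hf.exists_inv (image_eq hf hfR)
        have hgm : ∀ x ∈ R, g x ∈ R := fun x hx =>
          show _ ∈ (R : Set Ω) from hgR ▸ ⟨x, hx, rfl⟩
        refine ⟨g, hg, hgm, fun x => ?_, K.disp_inv hfd fun y hy => ⟨hgm y hy, hfg y hy⟩⟩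
        have h1 := hgf _ (hQR (((a⁻¹ : F.autGroup Q) : MulAut Q) x).2)
        rw [hfa] at h1
        refine Eq.trans ?_ h1
        refine congrArg g ?_
        show (x : Ω) = (((a : MulAut Q) ((a : MulAut Q)⁻¹ x) : Q) : Ω)
        rw [MulAut.apply_inv_self] }
  have hD : D = ⊤ := by
    obtain ⟨-, W, hW⟩ := (fullyNormalized_props K.hS hF hfnQ).1
    let M : Subgroup (F.autGroup Q) := (NormalCent.pGen E p Q).subgroupOf (F.autGroup Q)
    have hMn : M.Normal := by
      refine ⟨fun x hx a => ?_⟩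
      have hhom := (mem_autGroup_iff F hQS).1 a.2
      have h := congr_mem_pGen K.hE hhom (range_subtype_comp _) inf_le_right hx
      rw [congr_subtype_comp hhom] at h
      exact h
    have hWM : (W : Subgroup (F.autGroup Q)) ≤ M := by
      intro b hb
      obtain ⟨k, hk⟩ := W.isPGroup' ⟨b, hb⟩
      rw [hW] at hb
      obtain ⟨s, hs, hse⟩ := mem_autInducedBy_iff.1 (show (b : MulAut Q) ∈ Cfsg.autInducedBy S Q from hb)
      obtain ⟨t, ht, c, hcC, rfl⟩ := K.decomp hs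
      refine Subgroup.subset_closure ⟨autInducedBy_le_autGroup E inf_le_right
        (mem_autInducedBy_iff.2 ⟨t, ht, fun x => ?_⟩), k, congrArg (fun w : W => ((w : F.autGroup Q) : MulAut Q)) hk⟩
      refine (hse x).trans ?_
      rw [show t * c * (x : Ω) * (t * c)⁻¹ = t * (c * x * c⁻¹) * t⁻¹ by group,
        ← hcC.2 x x.2.2, mul_inv_cancel_right]
    have hMD : M ≤ D := by
      intro b hb
      obtain ⟨f, hf, hfb, hfc⟩ := liftsQ_of_pGen K.hS K.hE htc hfnQ hb
      have hm := LiftsQ.mapsTo hf hfb hfc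
      have hCQ : centralizerIn S Q ≤ R := K.centralizer_radical hc hr
      have hle : R ≤ Q ⊔ centralizerIn S Q := fun x hx => by
        obtain ⟨t, ht, c, hcC, rfl⟩ := K.decomp_radical hc hr hx
        exact Subgroup.mul_mem _ (Subgroup.mem_sup_left ht)
          (Subgroup.mem_sup_right (centralizerIn_antitone inf_le_right hcC))
      refine ⟨f, hf.restrict hle, fun x hx => sup_le hQR hCQ (hm x (hle hx)), hfb,
        K.disp_of_lift (hf.restrict hle) (fun x hx => ?_) fun c hcC _ =>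
          (hfc c (centralizerIn_antitone inf_le_right hcC)).2⟩
      obtain ⟨t, ht, c, hcC, rfl⟩ := K.decomp_radical hc hr hx
      exact ⟨t, ht, c, hcC, rfl, K.cent_le hc hr hcC⟩
    rw [eq_top_iff, ← Sylow.normalizer_sup_eq_top' W hWM]
    refine sup_le (fun n hn => big fun s hs => ?_) hMD
    have h1 : (⟨conjAut hs.2, autInducedBy_le_autGroup F hQS (conjAut_mem_autInducedBy hs.2 hs.1)⟩ :
        F.autGroup Q) ∈ (W : Subgroup (F.autGroup Q)) := by
      rw [hW]; exact conjAut_mem_autInducedBy hs.2 hs.1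
    have h2 := (Subgroup.mem_normalizer_iff.1 hn _).1 h1
    rw [hW] at h2
    obtain ⟨s', hs', he⟩ := mem_autInducedBy_iff.1 h2
    refine ⟨s', hs', fun x h => ?_⟩
    have h3 := he ((n : MulAut Q) x)
    simp only [Subgroup.coe_subtype, Subgroup.coe_mul, Subgroup.coe_inv, MulAut.mul_apply,
      MulAut.inv_apply_self] at h3
    rw [← h3]
    congr 2
  -- compare `γ` with the map found on `Q`
  have hγQ : ∀ x ∈ Q, γ x ∈ Q := fun x hx =>
    ⟨hγR x hx.1, mor_mem_T K.hE hγ hx.1 hx.2⟩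
  obtain ⟨a, ha⟩ := NormalCent.exists_aut hγ hQR hγQ
  obtain ⟨f, hf, hfR, hfa, hfd⟩ : a ∈ D := hD ▸ Subgroup.mem_top a
  obtain ⟨g, hg, hgf, hfg, hgR⟩ := hf.exists_inv (image_eq hf hfR)
  have hgm : ∀ x ∈ R, g x ∈ R := fun x hx => show _ ∈ (R : Set Ω) from hgR ▸ ⟨x, hx, rfl⟩
  have hδ : Mor F R (g ∘ γ) := hγ.comp hg hγR
  have hδR : ∀ x ∈ R, (g ∘ γ) x ∈ R := fun x hx => hgm _ (hγR x hx)
  have hδQ : ∀ x ∈ Q, (g ∘ γ) x = x := fun x hx => by
    show g (γ x) = x
    rw [← ha ⟨x, hx⟩, ← hfa ⟨x, hx⟩, hgf x hx.1]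
  -- an automorphism of `R` fixing `Q` extends
  obtain ⟨⟨d, hdF⟩, hde⟩ := NormalCent.exists_aut hδ le_rfl hδR
  have hdQ : ∀ y : R, (y : Ω) ∈ T → d y = y := fun y hy =>
    Subtype.ext ((hde y).trans (hδQ y ⟨y.2, hy⟩))
  have hdT : ∀ y : R, (y : Ω) ∈ T → ((d y : R) : Ω) ∈ T := fun y hy => by rw [hdQ y hy]; exact hy
  obtain ⟨hg₀S, hg₀N⟩ := hg₀
  have hcn : d * conjAut hg₀N * d⁻¹ ∈ Cfsg.autInducedBy S R := by
    have hcF := autInducedBy_le_autGroup F hRS (conjAut_mem_autInducedBy hg₀N hg₀S)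
    have hb := K.stab_mem_inn hr (b := d * conjAut hg₀N * d⁻¹ * (conjAut hg₀N)⁻¹)
      (mul_mem (mul_mem (mul_mem hdF hcF) (inv_mem hdF)) (inv_mem hcF)) (fun y => ?_) fun y hy => ?_
    · have h := mul_mem (inn_le_autInducedBy hRS hb) (conjAut_mem_autInducedBy hg₀N hg₀S)
      rwa [inv_mul_cancel_right] at h
    · simp only [MulAut.mul_apply]
      set u := (conjAut hg₀N : MulAut R)⁻¹ y with hu
      set v := (d : MulAut R)⁻¹ u with hv
      have e1 : y = conjAut hg₀N u := (MulAut.apply_inv_self _ _ _).symm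
      have e2 : u = d v := (MulAut.apply_inv_self _ _ _).symm
      have h5 : ((v⁻¹ * conjAut hg₀N v : R) : Ω) ∈ T := by
        rw [Subgroup.coe_mul, Subgroup.coe_inv, conjAut_apply]
        exact K.comm (hRS v.2) hg₀S
      have h6 := hdT _ h5
      rw [map_mul, map_inv, ← e2, Subgroup.coe_mul, Subgroup.coe_inv] at h6
      have h7 : ((u⁻¹ * y : R) : Ω) ∈ T := by
        rw [e1, Subgroup.coe_mul, Subgroup.coe_inv, conjAut_apply]
        exact K.comm (hRS u.2) hg₀S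
      rw [Subgroup.coe_mul, Subgroup.coe_inv] at h7
      have h8 := T.mul_mem (T.inv_mem h7) h6
      convert h8 using 1
      group
    · simp only [MulAut.mul_apply]
      have hy' : (((conjAut hg₀N : MulAut R)⁻¹ y : R) : Ω) ∈ T := by
        have h3 : ((conjAut hg₀N ((conjAut hg₀N : MulAut R)⁻¹ y) : R) : Ω) ∈ T := by
          rw [MulAut.apply_inv_self]; exact hy
        rw [conjAut_apply] at h3
        have h4 := K.conjT (S.inv_mem hg₀S) h3
        convert h4 using 1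
        group
      have h9 : (d : MulAut R)⁻¹ ((conjAut hg₀N : MulAut R)⁻¹ y) = (conjAut hg₀N : MulAut R)⁻¹ y := by
        conv_lhs => rw [← hdQ _ hy']
        exact MulAut.inv_apply_self _ _ _
      rw [h9, MulAut.apply_inv_self, hdQ y hy]
  obtain ⟨N, hRN, ψ, hψ, hlt, he⟩ :=
    exists_extend_aut K.hS hF hR.fullyNormalized hdF hg₀S hg₀N hg₀R hcn
  obtain ⟨w, hw, hwe⟩ := exists_mor hψ
  have hwd := ih N w hw hlt
  have hdd : K.Disp R (g ∘ γ) := fun x hx => by
    have h1 := hwd x (hRN hx)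
    have h2 : w x = (g ∘ γ) x :=
      ((hwe (Subgroup.inclusion hRN ⟨x, hx⟩)).trans (DFunLike.congr_fun he ⟨x, hx⟩)).trans
        (hde ⟨x, hx⟩)
    rwa [h2] at h1
  intro x hx
  have h := K.disp_comp hdd hfd hδR x hx
  rwa [Function.comp_apply, Function.comp_apply, hfg _ (hγR x hx)] at h

/-- Every map is trivial modulo `T`. -/
theorem displacement {P : Subgroup Ω} {φ : P →* Ω} (hφ : φ ∈ F.Hom P) (x : P) :
    (x : Ω)⁻¹ * φ x ∈ T := by
  have hF := K.hE.1.2.1
  have hTS := K.hTS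
  suffices ∀ d, ∀ (N : Subgroup Ω) (f : Ω → Ω), Mor F N f → Nat.card S < Nat.card N + d →
      K.Disp N f by
    obtain ⟨f, hf, hfe⟩ := exists_mor hφ
    rw [← hfe x]
    exact this (Nat.card S + 1) P f hf (by omega) x x.2
  intro d
  induction d with
  | zero =>
    intro N f hf h
    have := Subgroup.card_le_of_le hf.le
    omega
  | succ d ih =>
    rintro N f ⟨φ, hφ, e⟩ hk x hx
    rw [← e ⟨x, hx⟩]
    clear e
    revert hk
    refine Fusion.Alperin.hom_induction K.hS hF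
      (C := fun P φ => Nat.card S < Nat.card P + (d + 1) → ∀ x : P, (x : Ω)⁻¹ * φ x ∈ T)
      ?_ ?_ ?_ ?_ hφ |> fun h hk => h hk ⟨x, hx⟩
    · intro R hR a ha hk x
      obtain ⟨γ, hγ, hγe, hγR⟩ := exists_mor_of_aut hR.fullyNormalized.1 ⟨a, ha⟩
      have hγm : ∀ y ∈ R, γ y ∈ R := fun y hy => show _ ∈ (R : Set Ω) from hγR ▸ ⟨y, hy, rfl⟩
      have e := hγe x
      show (x : Ω)⁻¹ * ((a x : R) : Ω) ∈ T
      rw [← e]
      by_cases hd : Nat.card S < Nat.card R + d
      · exact ih R γ hγ hd x x.2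
      by_cases hne : R = S
      · subst hne
        have : Finite T := finite_of_le hTS
        obtain ⟨aT, haT⟩ := NormalCent.exists_aut hγ hTS fun t ht => mor_mem_T K.hE hγ (hTS ht) ht
        obtain ⟨f, hf, hfa, hfc⟩ := liftsQ_of_top K.hE (K.haut aT.2)
        have hSN : R ≤ T ⊔ centralizerIn R T := K.htop
        have hdec : ∀ y ∈ R, ∃ t ∈ R ⊓ T, ∃ c ∈ centralizerIn R T, y = t * c ∧ c ∈ R := fun y hy => by
          obtain ⟨t, ht, c, hc, rfl⟩ := K.decomp hy
          exact ⟨t, ⟨hTS ht, ht⟩, c, hc, rfl, hc.1⟩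
        have hfS := hf.restrict hSN
        have hfm : ∀ y ∈ R, f y ∈ R := fun y hy => hfS.mem hy
        have hfd : K.Disp R f := K.disp_of_lift hfS hdec fun c hc _ => hfc c hc
        obtain ⟨g, hg, hgf, hfg, hgR⟩ := hfS.exists_inv (image_eq hfS hfm)
        have hgm : ∀ y ∈ R, g y ∈ R := fun y hy => show _ ∈ (R : Set Ω) from hgR ▸ ⟨y, hy, rfl⟩
        have hδ : Mor F R (g ∘ γ) := hγ.comp hg hγm
        have hδT : ∀ t ∈ T, (g ∘ γ) t = t := fun t ht => by
          show g (γ t) = t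
          rw [← haT ⟨t, ht⟩, ← hfa ⟨t, ht⟩, hgf t (hTS ht)]
        have hδd : K.Disp R (g ∘ γ) := K.disp_of_lift hδ hdec fun c hc _ => by
          obtain ⟨χ, hχ, hχe⟩ := hδ.restrict (Subgroup.zpowers_le.2 hc.1 : Subgroup.zpowers c ≤ R)
          have hle : Subgroup.zpowers c ≤ centralizerIn R T := Subgroup.zpowers_le.2 hc
          have hmem : χ ∈ F.centralizerHom T (Subgroup.zpowers c) := by
            obtain ⟨ψ, hψ, hψe⟩ := hδ.restrict (sup_le (hle.trans (centralizerIn_le T)) hTS)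
            refine ⟨hχ, hle, fun y => ⟨hom_mem F hχ y, fun t ht => ?_⟩, ψ, hψ,
              fun y => (hψe _).trans (hχe y).symm, fun t => (hψe _).trans (hδT t t.2)⟩
            rw [hχe, ← hδT t ht, ← hδ.map_mul (hTS ht) (hle y.2).1,
              ← hδ.map_mul (hle y.2).1 (hTS ht), (hle y.2).2 t ht]
          have h := K.hY (displacement_mem_cSub K.hS K.hE hmem ⟨c, Subgroup.mem_zpowers c⟩)
          rwa [hχe] at h
        have h := K.disp_comp hδd hfd (fun y hy => hgm _ (hγm y hy)) x x.2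
        rwa [Function.comp_apply, Function.comp_apply, hfg _ (hγm x x.2)] at h
      · exact K.disp_step hR hne (fun N f hf hlt => ih N f hf (by omega)) hγ hγm x x.2
    · intro A B hAB ψ hψ h hk x
      have : Finite B := finite_of_le (hom_le F hψ)
      have := Subgroup.card_le_of_le hAB
      exact h (by omega) (Subgroup.inclusion hAB x)
    · intro A B φ ψ hφ hψ h hA hB hk x
      have : Finite B := finite_of_le (hom_le F hψ)
      have hcard : Nat.card A ≤ Nat.card B :=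
        Nat.card_le_card_of_injective (fun x => (⟨φ x, h x⟩ : B)) fun x y hxy =>
          F.injective_of_mem hφ (congrArg Subtype.val hxy)
      have h1 := T.mul_mem (hA hk x) (hB (by omega) ⟨φ x, h x⟩)
      convert h1 using 1
      show (x : Ω)⁻¹ * ψ ⟨φ x, h x⟩ = _
      group
    · intro A B φ ψ hφ hψ hr hinv hA hk y
      have hcard := isConj_card (F := F) ⟨φ, hφ, hr⟩
      obtain ⟨x, hx⟩ : (y : Ω) ∈ φ.range := hr.symm ▸ y.2
      have hxB : φ x ∈ B := hx ▸ y.2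
      obtain rfl : y = ⟨φ x, hxB⟩ := Subtype.ext hx.symm
      rw [hinv x hxB]
      have h1 := T.inv_mem (hA (by omega) x)
      convert h1 using 1
      group

end Small

end CfsgLib.NormalEnvelope
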