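import Cfsg.Agent.Fus.NormalEnvelope.Envelope
import Cfsg.Agent.Fus.NormalEnvelope.Focal

/-!
A normal subsystem with small centralizer and `p`-solvable quotient of automizers has the residual
limit of the whole system.
-/

set_option autoImplicit false

namespace CfsgLib.NormalEnvelope

open Cfsg Cfsg.FusionSystem CfsgLib.Fus CfsgLib.NormalCent CfsgLib.Fusion.Alperin

variable {Ω : Type*} [Group Ω] {S T : Subgroup Ω} {F : Cfsg.FusionSystem S}
  {E : Cfsg.FusionSystem T} {p : ℕ}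

theorem centralizerHom_mono {U : Subgroup Ω} {G : Cfsg.FusionSystem U} (hGF : G.IsSubsystemOf F)
    (hUS : U ≤ S) {Y P : Subgroup Ω} : G.centralizerHom Y P ⊆ F.centralizerHom Y P := by
  rintro φ ⟨hφ, hP, hφC, ψ, hψ, h1, h2⟩
  exact ⟨hGF _ hφ, fun x hx => ⟨hUS (hP hx).1, (hP hx).2⟩,
    fun x => ⟨hUS (hφC x).1, (hφC x).2⟩, ψ, hGF _ hψ, h1, h2⟩

variable [Finite S] [Fact p.Prime]

/-- A normal subsystem with `p`-solvable quotient of automizers and small centralizer has the same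
residual limits. -/
theorem sameLimit_of_small_centralizer (hS : IsPGroup p S) (hE : E.IsNormalIn F p)
    (hCE : ∀ Y : Subgroup Ω, Y ≤ centralizerIn S T →
      (∀ P, E.Hom P ⊆ F.centralizerHom Y P) → Y ≤ T)
    [hn : ((E.autGroup T).subgroupOf (F.autGroup T)).Normal]
    (hsolv : Cfsg.IsPSolvable p (↥(F.autGroup T) ⧸ (E.autGroup T).subgroupOf (F.autGroup T))) :
    SameLimit p F E := by
  obtain ⟨F₀, h, e⟩ := exists_envelope hS hE hsolv
  have hUS := h.hG.1.2.2.2.1.1
  have : Finite (T ⊔ centralizerIn S T : Subgroup Ω) := finite_of_le hUS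
  have hU := hS.to_le hUS
  have hCU : centralizerIn (T ⊔ centralizerIn S T : Subgroup Ω) T = centralizerIn S T := centralizerIn_eq hUS le_sup_right
  have hY : cSub F₀ E p ≤ T := hCE _ (cSub_le.trans hCU.le) fun P =>
    (hom_subset_centralizerHom hU h.hEG P).trans (centralizerHom_mono h.hG.1.2.2.1 hUS)
  have K : Small F₀ E p := ⟨hU, h.hEG, by rw [hCU], e.le, hY⟩
  have hfoc : F₀.focalSubgroup ≤ T := by
    refine (Subgroup.closure_le _).2 ?_
    rintro _ ⟨P, φ, x, hφ, rfl⟩
    exact K.displacement hφ x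
  have hh := (hyperfocalSubgroup_le_focal (p := p) F₀).trans hfoc
  have hTU : T ≤ (T ⊔ centralizerIn S T : Subgroup Ω) := le_sup_left
  have hTn : (T.subgroupOf (T ⊔ centralizerIn S T : Subgroup Ω)).Normal := ⟨fun x hx u => conj_mem_T h.hEG u.2 hx⟩
  obtain ⟨D, hD, hidx⟩ := PPowerExist.exists_pPowerIndex hU F₀ h.hG.1.1 hTU hh
  have hDN := PPowerExist.isNormalIn_of_pPowerIndex hU h.hG.1.1 hTU hTn hh hD hidx
  have h1 : SameLimit p F₀ D := fun A B X Y hX hY P =>
    Cfsg.Agent.S5203.result p hU F₀ h.hG.1.1 D hDN hidx X hX Y hY P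
  have : Finite T := finite_of_le hTU
  exact SameLimit.trans hU h.hG.1.1 h.same
    (SameLimit.trans (hU.to_le hTU) hD h1 (sameLimit_of_weaklyNormal hU hDN.1 h.hEG.1))

end CfsgLib.NormalEnvelope
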